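import Groth.Agent.Lib.AdeqMod20.ZarRes
import Groth.Prelude.Def_BigSite

/-!
# Restriction from the big Zariski site to the small Zariski site and cohomology
-/

set_option autoImplicit false
set_option linter.style.haveILetI false
set_option linter.unusedSectionVars false

universe u

open CategoryTheory CategoryTheory.Limits Opposite AlgebraicGeometry Abelian

noncomputable section

namespace GrothLib.BigZar18

open GrothLib.AdeqMod20

local notation "zar" => Scheme.zariskiPrecoverage

variable {S : Scheme.{u}} [BigSite.ZarCont zar S]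

/-- Restriction to the small Zariski site preserves injective objects. -/
theorem injective_resZar (I : BigSite.Ab zar S) [Injective I] : Injective ((BigSite.resZar zar S).obj I) := by
  haveI : Injective I.obj :=
    Injective.injective_of_adjoint (sheafificationAdjunction (QuotSh.J zar S) AddCommGrpCat.{u + 1}) I
  let A : Over S → AddCommGrpCat.{u + 1} := fun V => Injective.under (I.obj.obj (op V))
  let i : I.obj ⟶ gdm A :=
    { app := fun W => AddCommGrpCat.ofHom
        (AddMonoidHom.mk' (fun x (V : Over S) (g : V ⟶ W.unop) => Injective.ι (I.obj.obj (op V)) (I.obj.map g.op x))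
          (fun x y => funext fun V => funext fun g =>
            map_add (I.obj.map g.op ≫ Injective.ι (I.obj.obj (op V))).hom x y))
      naturality := fun W W' f => by
        ext x
        exact funext fun V => funext fun g => congrArg (Injective.ι (I.obj.obj (op V)))
          (ConcreteCategory.congr_hom (I.obj.map_comp f g.op) x).symm }
  have : ∀ W, Mono (i.app W) := fun W => (AddCommGrpCat.mono_iff_injective _).2 fun x y hxy => by
    have h := (AddCommGrpCat.mono_iff_injective (Injective.ι (I.obj.obj (op W.unop)))).1 inferInstance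
      (congrFun (congrFun hxy W.unop) (𝟙 _))
    exact (ConcreteCategory.congr_hom (I.obj.map_id W) x).symm.trans (h.trans (ConcreteCategory.congr_hom (I.obj.map_id W) y))
  haveI : Mono i := NatTrans.mono_of_mono_app i
  let r : gdm A ⟶ I.obj := Injective.factorThru (𝟙 _) i
  have hr : i ≫ r = 𝟙 _ := Injective.comp_factorThru _ _
  let i' := Functor.whiskerLeft (BigSite.zarIncl S).op i
  let r' := Functor.whiskerLeft (BigSite.zarIncl S).op r
  have hr' : i' ≫ r' = 𝟙 _ := by
    rw [← Functor.whiskerLeft_comp, hr]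
    rfl
  haveI := injective_gdm_res A
  refine ⟨fun {P Q} φ g _ => ?_⟩
  haveI : Mono g.hom := inferInstanceAs (Mono ((sheafToPresheaf _ _).map g))
  refine ⟨⟨Injective.factorThru (φ.hom ≫ i') g.hom ≫ r'⟩, ?_⟩
  ext : 1
  refine (Category.assoc _ _ _).symm.trans ?_
  refine (congrArg (fun t => t ≫ r') (Injective.comp_factorThru (φ.hom ≫ i') g.hom)).trans ?_
  exact (Category.assoc _ _ _).trans ((congrArg (fun t => φ.hom ≫ t) hr').trans (Category.comp_id _))

instance preservesFiniteLimits_resZar : PreservesFiniteLimits (BigSite.resZar zar S) := by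
  haveI : PreservesFiniteLimits (BigSite.resZar zar S ⋙ sheafToPresheaf _ AddCommGrpCat.{u + 1}) :=
    inferInstanceAs (PreservesFiniteLimits (sheafToPresheaf _ AddCommGrpCat.{u + 1} ⋙
      (Functor.whiskeringLeft _ _ _).obj (BigSite.zarIncl S).op))
  exact preservesFiniteLimits_of_reflects_of_preserves (BigSite.resZar zar S) (sheafToPresheaf _ _)

/-- Restriction from the big to the small Zariski site is exact. -/
theorem preservesHomology_resZar : (BigSite.resZar zar S).PreservesHomology := by
  haveI : (BigSite.resZar zar S).PreservesEpimorphisms := ⟨fun {F G} a ha => by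
    haveI : Sheaf.IsLocallySurjective a := (Sheaf.isLocallySurjective_iff_epi' _ a).2 ha
    haveI : Sheaf.IsLocallySurjective ((BigSite.resZar zar S).map a) := ⟨fun {U} z x hx => by
      obtain ⟨𝒰, h𝒰⟩ := Scheme.mem_grothendieckTopology_iff.1
        ((GrothendieckTopology.mem_over_iff _ _).1
          (Presheaf.imageSieve_mem (QuotSh.J zar S) a.hom (U := op ((BigSite.zarIncl S).obj U)) z))
      obtain ⟨i, y, hy⟩ := 𝒰.exists_eq (⟨x, hx⟩ : Scheme.Opens.toScheme U)
      haveI : IsOpenImmersion (𝒰.f i) := 𝒰.map_prop i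
      obtain ⟨r, hr⟩ := (Sieve.overEquiv_iff _ _).1 (h𝒰 _ _ ⟨i⟩)
      let f' : 𝒰.X i ⟶ Scheme.Opens.toScheme U := 𝒰.f i
      haveI : IsOpenImmersion f' := 𝒰.map_prop i
      let g : 𝒰.X i ⟶ S := f' ≫ Scheme.Opens.ι U
      haveI : IsOpenImmersion g := inferInstanceAs (IsOpenImmersion (f' ≫ Scheme.Opens.ι U))
      let V : S.Opens := g.opensRange
      have hle : V ≤ U := by
        rintro p ⟨q, rfl⟩
        exact (f'.base q).2
      refine ⟨V, homOfLE hle, ?_, ⟨y, ?_⟩⟩
      · let k : (BigSite.zarIncl S).obj V ⟶ Over.mk g :=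
          Over.homMk (U := (BigSite.zarIncl S).obj V) (V := Over.mk g)
            (IsOpenImmersion.lift g V.ι ((Scheme.Opens.range_ι V).le))
            (IsOpenImmersion.lift_fac _ _ _)
        refine ⟨F.obj.map k.op r, ?_⟩
        show a.hom.app _ (F.obj.map k.op r) = G.obj.map ((BigSite.zarIncl S).map (homOfLE hle)).op z
        refine (NatTrans.naturality_apply a.hom k.op r).trans ?_
        refine (congrArg (G.obj.map k.op) hr).trans ?_
        refine (ConcreteCategory.congr_hom (G.obj.map_comp _ k.op) z).symm.trans ?_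
        exact congrArg (fun t => G.obj.map t z) (Quiver.Hom.unop_inj
          ((GrothLib.AdeqMod20.subsingleton_hom _ _).elim _ _))
      · exact congrArg Subtype.val hy⟩
    exact Sheaf.epi_of_isLocallySurjective _⟩
  exact Functor.preservesHomology_of_preservesEpis_and_kernels _

/-- Cohomology on the small Zariski site of the restriction is cohomology on the big Zariski site. -/
theorem nonempty_H_resZar_equiv (G : BigSite.Ab zar S) (n : ℕ) :
    Nonempty (EtZar.H ((BigSite.resZar zar S).obj G) n ≃+ BigSite.H zar S G n) := by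
  let hT : IsTerminal (Over.mk (𝟙 S)) := Over.mkIdTerminal
  haveI hι : IsIso (⊤ : S.Opens).ι := inferInstanceAs (IsIso S.topIso.hom)
  let hT' : IsTerminal ((BigSite.zarIncl S).obj ⊤) :=
    hT.ofIso (Over.isoMk (f := Over.mk (𝟙 S)) (g := (BigSite.zarIncl S).obj ⊤) (@asIso _ _ _ _ _ hι).symm
      (@IsIso.inv_hom_id _ _ _ _ (⊤ : S.Opens).ι hι))
  let hZ : IsTerminal (⊤ : S.Opens) := isTerminalTop
  let φ : ∀ F : BigSite.Ab zar S, ((constantSheaf _ AddCommGrpCat.{u + 1}).obj (AddCommGrpCat.of (ULift ℤ)) ⟶ F) ≃+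
      ((constantSheaf _ AddCommGrpCat.{u + 1}).obj (AddCommGrpCat.of (ULift ℤ)) ⟶ (BigSite.resZar zar S).obj F) :=
    fun F => (Ext.addEquiv₀.symm.trans (Sheaf.H.equiv₀ F hT')).trans
      ((Sheaf.H.equiv₀ ((BigSite.resZar zar S).obj F) hZ).symm.trans Ext.addEquiv₀)
  obtain ⟨e⟩ := nonempty_ext_addEquiv_of_class (BigSite.resZar zar S) _ _ φ (fun _ => True)
    (fun {F F'} g a => by
      obtain ⟨x, rfl⟩ := Ext.addEquiv₀.surjective a
      rw [← Sheaf.H.addEquiv₀_map]
      change Ext.addEquiv₀ ((Sheaf.H.equiv₀ ((BigSite.resZar zar S).obj F') hZ).symm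
          (Sheaf.H.equiv₀ F' hT' (Ext.addEquiv₀.symm (Ext.addEquiv₀ (Sheaf.H.map g 0 x))))) =
        Ext.addEquiv₀ ((Sheaf.H.equiv₀ ((BigSite.resZar zar S).obj F) hZ).symm
          (Sheaf.H.equiv₀ F hT' (Ext.addEquiv₀.symm (Ext.addEquiv₀ x)))) ≫ (BigSite.resZar zar S).map g
      rw [AddEquiv.symm_apply_apply, AddEquiv.symm_apply_apply, ← Sheaf.H.equiv₀_naturality]
      refine Eq.trans (congrArg Ext.addEquiv₀ ?_) (Sheaf.H.addEquiv₀_map _ _)
      exact (Sheaf.H.equiv₀_symm_naturality hZ ((BigSite.resZar zar S).map g) _).symm)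
    (fun F _ => ⟨trivial, by
      haveI := preservesHomology_resZar (S := S)
      haveI := (BigSite.resZar zar S).preservesFiniteColimits_of_preservesHomology
      exact (GrothLib.SheafCoh.injSES_shortExact F).map_of_exact _⟩)
    (fun I hI m => by
      haveI := injective_resZar I
      exact Ext.subsingleton_of_injective _ _ _) n G trivial
  exact ⟨e.symm⟩

end GrothLib.BigZar18
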